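import Cfsg.Agent.Lib.Leech.Sec3.Tables
import Cfsg.Agent.Lib.Leech.Sec5.WordFacts

/-!
# Kernel-checked facts about the tables for the element of order three
-/

set_option autoImplicit false
set_option maxRecDepth 100000
set_option maxHeartbeats 4000000
set_option Elab.async false

namespace Cfsg.Agent.Leech.Sec3

open Cfsg Matrix Cfsg.Agent.Reflections Cfsg.Agent.Leech.Co1Cent
open Cfsg.Agent.Golay (idx pt toSet octadO)
open Cfsg.Agent.Leech.Sec5 (Step okStep okC sameW evalL evalK forceL frameL forceL_eq evalK_eq kW sgnB kTab kMask kTab_eq kMask_eq)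

/-- The three generators. -/
def genW (k : Fin 3) : List Step := [aW, g1W, g2W].getD k.val []

/-- An entry of the matrix of the element of order three. -/
def aEnt (p q : ℕ) : ℤ := (aImg.getD p []).getD q 0

/-- The pair commutes with the element of order three. -/
def cK (i : Fin 16) (j : Fin 32) : Bool :=
  (List.range 24).reverse.all fun p => (List.range 24).reverse.all fun q =>
    sgnB ((kMask j).testBit q) (aEnt p ((kTab i).getD q 0)) ==
      sgnB ((kMask j).testBit ((kTab i).getD p 0)) (aEnt ((kTab i).getD p 0) q)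

theorem aImg_eq : ∀ p : Fin 24, vecL (evalL aW (frameL p.val)) = vecL (aImg.getD p.val []) := by
  have h : (List.range 24).all (fun p => forceL (frameL p) fun v =>
      evalK aW v fun a => a == aImg.getD p []) = true := by decide +kernel
  intro p
  have := List.all_eq_true.1 h p.val (List.mem_range.2 p.isLt)
  rw [forceL_eq, evalK_eq] at this
  rw [eq_of_beq this]

theorem gen_ok : ∀ k : Fin 3, (genW k).all okStep = true ∧ (genW k).all okC = true := by decide +kernel

theorem gen_comm : ∀ k : Fin 3, sameW (genW k ++ aW) (aW ++ genW k) = true := by decide +kernel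

theorem a_three : sameW (aW ++ aW ++ aW) [] = true := by decide +kernel

theorem a_ne : vecL (evalL aW (frameL 23)) (pt 23) ≠ 8 := by decide +kernel

theorem tau_ok : tauW.all okStep = true ∧ sameW (tauW ++ aW) (aW ++ tauW) = true := by
  decide +kernel

theorem tau_octad : ∃ j : Fin 32, maskN j = maskP ∧ maskN j ≠ ocMask ∧
    ∀ i : Fin 16, tabN i = Golay.idTab → cK i j = true ∧
      sameW (tauW ++ [some (Golay.idTab, octadO)]) (kW i j ++ tauW) = true := by
  simp only [kW, kTab_eq, kMask_eq]
  decide +kernel

theorem cols_facts : ∀ k : Fin 3, ∀ i j : I8,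
    psi (vecL (evalL (genW k) (hTab.getD (num j) []))) i = colMat (colsT.getD k.val []) i j := by
  decide +kernel

theorem cols_linear : ∀ k : Fin 3, ∀ x : Fin 256, ∀ i : I8,
    (∑ j, colMat (colsT.getD k.val []) i j * vb x.val j) =
      vb (actN (colsT.getD k.val []) x.val) i := by
  decide +kernel

/-- The action of a generator on codes. -/
def genN (k : ℕ) (x : ℕ) : ℕ := actN (colsT.getD k []) x

theorem genN_lt : ∀ k : Fin 3, ∀ x : Fin 256, genN k.val x.val < 256 := by decide +kernel

/-- A word in the generators on codes. -/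
def evalI (w : List ℕ) (x : ℕ) : ℕ := w.foldr genN x

/-- The frame vector of a level. -/
def fv (l : ℕ) : ℕ := frameT.getD l 0

/-- The candidate images at a level. -/
def cand (l : ℕ) : List ℕ :=
  (List.range 256).filter fun x => qN x &&
    (List.range l).all fun j => !polN x (fv j) && !polN x (genN 0 (fv j))

/-- The word of a candidate. -/
def wordC (l i : ℕ) : List ℕ := (certT.getD l []).getD i []

theorem cand_len : (cand 0).length = 120 ∧ (cand 1).length = 36 ∧ (cand 2).length = 6 ∧
    (cand 3).length = 3 := by decide +kernel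

theorem fv_facts : ∀ l : Fin 4, fv l.val < 256 ∧ qN (fv l.val) = true ∧
    ∀ j : Fin 4, j.val < l.val → polN (fv l.val) (fv j.val) = false ∧
      polN (fv l.val) (genN 0 (fv j.val)) = false := by decide +kernel

theorem cert_ok : ∀ l : Fin 4, (List.range (cand l.val).length).all (fun i =>
    (wordC l.val i).all (fun k => Nat.blt k 3) &&
      (evalI (wordC l.val i) (fv l.val) == (cand l.val).getD i 0) &&
      (List.range l.val).all fun j => evalI (wordC l.val i) (fv j) == fv j) = true := by
  decide +kernel

/-- A frame with its images spans everything. -/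
theorem span_ok : (List.range 256).all (fun v =>
    (spanN ((List.range 4).map fv ++ (List.range 4).map fun l => genN 0 (fv l))).contains v) = true := by
  decide +kernel

theorem kernel_facts :
    ((Finset.univ : Finset (Fin 16 × Fin 32)).filter fun x => cK x.1 x.2 = true).card = 128 := by
  decide +kernel

/-- A generator of the centralizer in the kernel. -/
def gR (n : ℕ) : List ℕ × ℕ := gensR.getD n ([], 0)

/-- A moved pair. -/
def mv (n : ℕ) : List ℕ × ℕ := movedT.getD n ([], 0)

theorem gR_facts : gensR.length = 6 ∧ ∀ n : Fin 6, ∃ i : Fin 16, tabN i = (gR n.val).1 ∧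
    ∃ j : Fin 32, maskN j = (gR n.val).2 ∧ cK i j = true := by
  simp only [kTab_eq, kMask_eq]
  decide +kernel

theorem mv_facts : ∀ n : Fin 3, ∃ i : Fin 16, tabN i = (mv n.val).1 ∧
    ∃ j : Fin 32, maskN j = (mv n.val).2 := by
  simp only [kTab_eq, kMask_eq]
  decide +kernel

/-- A pair is a moved pair up to the centre, or central. -/
def inW (i : Fin 16) (j : Fin 32) : Bool :=
  (kTab i == Golay.idTab && (kMask j == 0 || kMask j == ocMask)) ||
    (List.range 3).any fun n => kTab i == (mv n).1 &&
      (kMask j == (mv n).2 || kMask j == (mv n).2 ^^^ ocMask)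

/-- Two pairs commute. -/
def cmK (i : Fin 16) (j : Fin 32) (i' : List ℕ) (j' : ℕ) : Bool :=
  kMask j ^^^ imgMask (kTab i) j' == j' ^^^ imgMask i' (kMask j)

theorem cent_facts : ∀ (i : Fin 16) (j : Fin 32),
    ((List.range 6).all fun n => cmK i j (gR n).1 (gR n).2) = true → inW i j = true := by
  decide +kernel

theorem moved_cm : ∀ n : Fin 3, ∀ (i : Fin 16) (j : Fin 32), cK i j = true →
    cmK i j (mv n.val).1 (mv n.val).2 = true := by
  decide +kernel

theorem moved_out : ∀ n n' : Fin 3, ∀ i j, tabN i = (mv n.val).1 → maskN j = (mv n.val).2 →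
    (∀ i' j', tabN i' = (mv n'.val).1 → maskN j' = (mv n'.val).2 → n ≠ n' →
      ¬ (tabN i' = tabN i ∧ (maskN j' = maskN j ∨ maskN j' = maskN j ^^^ ocMask))) ∧
    ¬ (tabN i = Golay.idTab ∧ (maskN j = 0 ∨ maskN j = ocMask)) := by
  have h : ∀ n n' : Fin 3, (n ≠ n' → ¬ ((mv n'.val).1 = (mv n.val).1 ∧
        ((mv n'.val).2 = (mv n.val).2 ∨ (mv n'.val).2 = (mv n.val).2 ^^^ ocMask))) ∧
      ¬ ((mv n.val).1 = Golay.idTab ∧ ((mv n.val).2 = 0 ∨ (mv n.val).2 = ocMask)) := by decide +kernel
  intro n n' i j hi hj
  rw [hi, hj]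
  refine ⟨fun i' j' hi' hj' hne => ?_, (h n n').2⟩
  rw [hi', hj']
  exact (h n n').1 hne

theorem cyc_facts : ∀ n : Fin 3,
    sameW (aW ++ [some (mv n.val)]) ([some (mv ((n.val + 1) % 3))] ++ aW) = true := by
  decide +kernel

theorem tab_comm : ∀ i i' : Fin 16,
    Golay.comp (tabN i) (tabN i') = Golay.comp (tabN i') (tabN i) := by
  simp only [kTab_eq]
  decide +kernel

end Cfsg.Agent.Leech.Sec3
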