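import Cfsg.Agent.Lib.Leech.Sec3.Facts
import Cfsg.Agent.Lib.Leech.Sec5.Group

/-!
# The centralizer of the element of order three inside the centralizer of the octad involution

Modulo 2 on the octad lattice its image has order 77760, the order of the general unitary group in
dimension four over four elements: it permutes the orthonormal frames simply transitively.
-/

set_option autoImplicit false
set_option maxRecDepth 100000
set_option maxHeartbeats 2000000

namespace Cfsg.Agent.Leech.Sec3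

open Cfsg Matrix QuadraticMap Cfsg.Agent.Reflections Cfsg.Agent.Leech.Co1Cent
open Cfsg.Agent.Golay (idx pt toSet octadO)
open Cfsg.Agent.Leech.Sec5 (Step okStep okC sameW wordEl wordEl_mem act_wordEl word_comm vb_inj
  act_Q8 act_pol)

attribute [local irreducible] cand certT frameT colsT

/-- The generators of the centralizer. -/
noncomputable def gC (k : Fin 3) : ↥C0 :=
  ⟨wordEl (genW k), wordEl_mem _ (gen_ok k).1 (gen_ok k).2⟩

/-- The element of order three. -/
noncomputable def aC : ↥C0 := gC 0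

theorem coe_aC : (aC : Co0) = wordEl aW := rfl

/-- Its centralizer. -/
noncomputable def H0 : Subgroup ↥C0 := Subgroup.centralizer ({aC} : Set ↥C0)

theorem mem_H0 {g : ↥C0} : g ∈ H0 ↔ g * aC = aC * g := Subgroup.mem_centralizer_singleton_iff

theorem gC_mem (k : Fin 3) : gC k ∈ H0 := by
  rw [mem_H0]
  refine Subtype.ext ?_
  rw [Subgroup.coe_mul, Subgroup.coe_mul]
  exact word_comm (gen_ok k).1 (gen_ok 0).1 (gen_comm k)

theorem act_gC (k : Fin 3) {x : ℕ} (hx : x < 256) :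
    act (rep8 (gC k)) (vb x) = vb (genN k.val x) :=
  act_wordEl (gen_ok k).1 rfl (cols_facts k) (cols_linear k) hx

/-- The image. -/
noncomputable def Im : Subgroup O8 := (rep8.comp H0.subtype).range

theorem gen_mem_Im (k : Fin 3) : rep8 (gC k) ∈ Im := ⟨⟨gC k, gC_mem k⟩, rfl⟩

theorem Im_comm {g : O8} (hg : g ∈ Im) : g * rep8 aC = rep8 aC * g := by
  obtain ⟨h, rfl⟩ := hg
  show rep8 h.1 * rep8 aC = rep8 aC * rep8 h.1
  rw [← map_mul, mem_H0.1 h.2, map_mul]

theorem word_spec : ∀ w : List ℕ, (∀ k ∈ w, k < 3) → ∃ g ∈ Im, ∀ x, x < 256 →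
    act g (vb x) = vb (evalI w x) ∧ evalI w x < 256
  | [], _ => ⟨1, one_mem _, fun x hx => ⟨Reflections.act_one _, hx⟩⟩
  | k :: r, h => by
    obtain ⟨g, hg, he⟩ := word_spec r fun j hj => h j (List.mem_cons_of_mem _ hj)
    have hk : k < 3 := h k List.mem_cons_self
    refine ⟨rep8 (gC ⟨k, hk⟩) * g, mul_mem (gen_mem_Im _) hg, fun x hx => ?_⟩
    obtain ⟨e, hlt⟩ := he x hx
    refine ⟨?_, genN_lt ⟨k, hk⟩ ⟨_, hlt⟩⟩
    rw [act_mul, e]
    exact act_gC ⟨k, hk⟩ hlt

/-- The elements fixing the first frame vectors. -/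
def Stb (l : ℕ) : Subgroup O8 where
  carrier := {g | g ∈ Im ∧ ∀ j < l, act g (vb (fv j)) = vb (fv j)}
  one_mem' := ⟨one_mem _, fun j _ => Reflections.act_one _⟩
  mul_mem' := fun {a b} ha hb => ⟨mul_mem ha.1 hb.1, fun j hj => by rw [act_mul, hb.2 j hj, ha.2 j hj]⟩
  inv_mem' := fun {a} ha => ⟨inv_mem ha.1, fun j hj => by
    nth_rw 1 [← ha.2 j hj]
    rw [← act_mul, inv_mul_cancel, Reflections.act_one]⟩

theorem Stb_zero : Stb 0 = Im := by
  ext g
  exact ⟨fun h => h.1, fun h => ⟨h, fun j hj => absurd hj (Nat.not_lt_zero j)⟩⟩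

theorem fv_lt {l : ℕ} (hl : l < 4) : fv l < 256 := (fv_facts ⟨l, hl⟩).1

theorem cand_lt {l : ℕ} {x : ℕ} (hx : x ∈ cand l) : x < 256 := by
  unfold cand at hx
  exact List.mem_range.1 (List.mem_filter.1 hx).1

theorem image_mem {l : ℕ} (hl : l < 4) {g : O8} (hg : g ∈ Stb l) :
    ∃ i < (cand l).length, act g (vb (fv l)) = vb ((cand l).getD i 0) := by
  obtain ⟨x, hx, hxe⟩ := exists_vb (act g (vb (fv l)))
  obtain ⟨-, hq, hp⟩ := fv_facts ⟨l, hl⟩
  have hmem : x ∈ cand l := by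
    unfold cand
    refine List.mem_filter.2 ⟨List.mem_range.2 hx, ?_⟩
    simp only [Bool.and_eq_true, List.all_eq_true, List.mem_range]
    refine ⟨(act_Q8 g (fv_lt hl) hx hxe.symm).trans hq, fun j hj => ?_⟩
    have hj4 : j < 4 := hj.trans hl
    obtain ⟨p1, p2⟩ := hp ⟨j, hj4⟩ hj
    have h1 := act_pol g (fv_lt hl) (fv_lt hj4) hx (fv_lt hj4) hxe.symm (hg.2 j hj)
    have hga : act g (vb (genN 0 (fv j))) = vb (genN 0 (fv j)) := by
      have h := act_gC 0 (fv_lt hj4)
      rw [show ((0 : Fin 3) : ℕ) = 0 from rfl] at h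
      rw [← h, ← act_mul, show gC 0 = aC from rfl, Im_comm hg.1, act_mul, hg.2 j hj]
    have hlt : genN 0 (fv j) < 256 := genN_lt 0 ⟨_, fv_lt hj4⟩
    have h2 := act_pol g (fv_lt hl) hlt hx hlt hxe.symm hga
    rw [h1, h2]
    simp only at p1 p2
    rw [p1, p2]
    exact ⟨rfl, rfl⟩
  obtain ⟨i, hi, e⟩ := List.getElem_of_mem hmem
  exact ⟨i, hi, by rw [List.getD_eq_getElem _ _ hi, e, hxe]⟩

theorem exists_rep {l : ℕ} (hl : l < 4) (i : Fin (cand l).length) :
    ∃ g ∈ Stb l, act g (vb (fv l)) = vb ((cand l).getD i.val 0) := by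
  have h := List.all_eq_true.1 (cert_ok ⟨l, hl⟩) i.val (List.mem_range.2 i.isLt)
  simp only [Bool.and_eq_true, List.all_eq_true, Nat.blt_eq, beq_iff_eq, List.mem_range] at h
  obtain ⟨⟨h1, h2⟩, h3⟩ := h
  obtain ⟨g, hg, he⟩ := word_spec _ h1
  refine ⟨g, ⟨hg, fun j hj => ?_⟩, ?_⟩
  · rw [(he _ (fv_lt (hj.trans hl))).1, h3 j hj]
  · rw [(he _ (fv_lt hl)).1, h2]

theorem card_Stb {l : ℕ} (hl : l < 4) :
    Nat.card (Stb l) = (cand l).length * Nat.card (Stb (l + 1)) := by
  choose r hr hre using exists_rep hl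
  have hnd : (cand l).Nodup := by unfold cand; exact List.nodup_range.filter _
  have hle : Stb (l + 1) ≤ Stb l := fun g hg => ⟨hg.1, fun j hj => hg.2 j (by omega)⟩
  let f : Fin (cand l).length × ↥(Stb (l + 1)) → ↥(Stb l) := fun p =>
    ⟨r p.1 * p.2.1, mul_mem (hr p.1) (hle p.2.2)⟩
  have hf : Function.Bijective f := by
    refine ⟨fun a b e => ?_, fun g => ?_⟩
    · have e' : r a.1 * a.2.1 = r b.1 * b.2.1 := congrArg Subtype.val e
      have h1 := congrArg (fun m => act m (vb (fv l))) e'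
      simp only [act_mul, a.2.2.2 l (Nat.lt_succ_self l), b.2.2.2 l (Nat.lt_succ_self l), hre] at h1
      rw [List.getD_eq_getElem _ _ a.1.isLt, List.getD_eq_getElem _ _ b.1.isLt] at h1
      have h2 := vb_inj (cand_lt (List.getElem_mem _)) (cand_lt (List.getElem_mem _)) h1
      have h3 : a.1 = b.1 := Fin.ext ((List.Nodup.getElem_inj_iff hnd).1 h2)
      rw [h3] at e'
      exact Prod.ext h3 (Subtype.ext (mul_left_cancel e'))
    · obtain ⟨i, hi, e⟩ := image_mem hl g.2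
      have hm : (r ⟨i, hi⟩)⁻¹ * g.1 ∈ Stb l := mul_mem (inv_mem (hr _)) g.2
      refine ⟨(⟨i, hi⟩, ⟨(r ⟨i, hi⟩)⁻¹ * g.1, hm.1, fun j hj => ?_⟩), Subtype.ext ?_⟩
      · rcases Nat.lt_succ_iff_lt_or_eq.1 hj with hj | rfl
        · exact hm.2 j hj
        · rw [act_mul, e, ← hre ⟨i, hi⟩, ← act_mul, inv_mul_cancel, Reflections.act_one]
      · exact mul_inv_cancel_left _ _
  rw [← Nat.card_congr (Equiv.ofBijective f hf), Nat.card_prod, Nat.card_fin]

theorem Stb_four : Stb 4 = ⊥ := by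
  rw [eq_bot_iff]
  intro g hg
  rw [Subgroup.mem_bot]
  refine isom_ext fun w => ?_
  obtain ⟨x, hx, rfl⟩ := exists_vb w
  rw [Reflections.act_one]
  refine (spanN_sound g _ ?_ x (List.contains_iff_mem.1
    (List.all_eq_true.1 span_ok x (List.mem_range.2 hx)))).2
  intro v hv
  rcases List.mem_append.1 hv with hv | hv <;> obtain ⟨j, hj, rfl⟩ := List.mem_map.1 hv <;>
    rw [List.mem_range] at hj
  · exact ⟨fv_lt hj, hg.2 j hj⟩
  · refine ⟨genN_lt 0 ⟨_, fv_lt hj⟩, ?_⟩
    have h := act_gC 0 (fv_lt hj)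
    rw [show ((0 : Fin 3) : ℕ) = 0 from rfl] at h
    rw [← h, ← act_mul, show gC 0 = aC from rfl, Im_comm hg.1, act_mul, hg.2 j hj]

theorem card_Im : Nat.card Im = 77760 := by
  obtain ⟨c0, c1, c2, c3⟩ := cand_len
  rw [← Stb_zero, card_Stb (by norm_num), card_Stb (by norm_num), card_Stb (by norm_num),
    card_Stb (by norm_num), Stb_four, Subgroup.card_bot]
  simp only [c0, c1, c2, c3]

theorem aC_pow_three : aC ^ 3 = 1 := by
  refine Subtype.ext ?_
  have ok : aW.all okStep = true := (gen_ok 0).1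
  have h := Sec5.wordEl_ext (w := aW ++ aW ++ aW) (w' := [])
    (by simp only [List.all_append, ok]; rfl) rfl a_three
  rw [Sec5.wordEl_append, Sec5.wordEl_append] at h
  rw [SubmonoidClass.coe_pow, OneMemClass.coe_one, coe_aC, pow_three, ← mul_assoc]
  exact h

theorem rep_aC_ne : rep8 aC ≠ 1 := by
  intro h
  have h1 := act_gC 0 (fv_lt (l := 0) (by norm_num))
  rw [show gC 0 = aC from rfl, h, Reflections.act_one] at h1
  have h2 := vb_inj (fv_lt (l := 0) (by norm_num)) (genN_lt 0 ⟨_, fv_lt (l := 0) (by norm_num)⟩) h1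
  have h3 : genN 0 (fv 0) ≠ fv 0 := by decide +kernel
  exact h3 h2.symm

theorem orderOf_rep_aC : orderOf (rep8 aC) = 3 :=
  haveI : Fact (Nat.Prime 3) := ⟨Nat.prime_three⟩
  orderOf_eq_prime (by rw [← map_pow, aC_pow_three, map_one]) rep_aC_ne

end Cfsg.Agent.Leech.Sec3
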