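import Cfsg.Agent.LargeExt10.Classes
import Cfsg.Agent.Lib.LargeExtraspecial.SectionApply
import Cfsg.Agent.Lib.UnitaryOrthogonal.OmegaStandard
import Cfsg.Agent.Lib.Leech.Co1Cent.Main

/-!
# A group with a centralizer of Suzuki sporadic type and the given order is simple
-/

set_option autoImplicit false
set_option maxRecDepth 100000

namespace Cfsg.Agent.Leech.Sec3

open QuadraticMap Cfsg.Agent.Reflections Cfsg.Agent.LargeExtraspecial Cfsg.Agent.LargeExt10

theorem aniso11 : UnitaryOrthogonal.BinAniso (1 : ZMod 2) 1 := by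
  unfold UnitaryOrthogonal.BinAniso
  decide

/-- `Ω⁻(6,2)` is simple. -/
theorem omega6_simple : IsSimpleGroup ↥(Cfsg.Omega (ZMod 2) ⇑Q6) := by
  obtain ⟨hs, hc⟩ := UnitaryOrthogonal.pomega_minus aniso11 0
  have hiso : Nat.card ↥(Cfsg.isometryGroup (ZMod 2) (Cfsg.quadFormMinus 2 (ZMod 2) 1 1)) =
      Nat.card (UnitaryOrthogonal.orth (UnitaryOrthogonal.hypSum (0 + 2) (UnitaryOrthogonal.binForm (1 : ZMod 2) 1))) :=
    Nat.card_congr (UnitaryOrthogonal.minusEquiv 2 (ZMod 2) 1 1).toEquiv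
  rw [← hiso] at hc
  rw [show Nat.gcd 4 (Nat.card (ZMod 2) ^ (0 + 3) + 1) = 1 by rw [Nat.card_zmod]; rfl] at hc
  obtain ⟨hO, hOi⟩ := card_omega6
  rw [coe_qMinus] at hO hOi ⊢
  have h2 := (Cfsg.Omega (ZMod 2) (Cfsg.quadFormMinus 2 (ZMod 2) 1 1)).card_mul_index
  rw [hO, hOi] at h2
  set Ω := Cfsg.Omega (ZMod 2) (Cfsg.quadFormMinus 2 (ZMod 2) 1 1)
  have hP : Nat.card (↥Ω ⧸ Subgroup.center ↥Ω) = 25920 := by
    have : 2 * 1 * Nat.card (↥Ω ⧸ Subgroup.center ↥Ω) = 51840 := by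
      rw [show (51840 : ℕ) = 25920 * 2 from rfl, h2]; exact hc
    omega
  have hZ : Subgroup.center ↥Ω = ⊥ := by
    have := Subgroup.card_eq_card_quotient_mul_card_subgroup (Subgroup.center ↥Ω)
    rw [hO, hP] at this
    exact Subgroup.eq_bot_of_card_eq _ (by omega)
  haveI : Nontrivial ↥Ω := Finite.one_lt_card_iff_nontrivial.1 (by rw [hO]; norm_num)
  exact IsSimpleGroup.isSimpleGroup_of_surjective
    ((QuotientGroup.quotientMulEquivOfEq hZ).trans QuotientGroup.quotientBot).toMonoidHom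
    ((QuotientGroup.quotientMulEquivOfEq hZ).trans QuotientGroup.quotientBot).surjective

theorem omega6_not_solvable : ¬ Group.IsSolvable ↥(Cfsg.Omega (ZMod 2) ⇑Q6) := by
  intro h
  haveI := omega6_simple
  have hcomm : ∀ a b : ↥(Cfsg.Omega (ZMod 2) ⇑Q6), a * b = b * a :=
    IsSimpleGroup.comm_iff_isSolvable.2 h
  letI : CommGroup ↥(Cfsg.Omega (ZMod 2) ⇑Q6) :=
    { (inferInstance : Group ↥(Cfsg.Omega (ZMod 2) ⇑Q6)) with mul_comm := hcomm }
  have hp := IsSimpleGroup.prime_card (α := ↥(Cfsg.Omega (ZMod 2) ⇑Q6))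
  rw [card_omega6.1] at hp
  norm_num at hp

theorem singular_sum : ∀ k : Fin 64, ∃ j : Fin 64, qm j.val = false ∧ qm (k.val ^^^ j.val) = false := by
  decide +kernel

variable {G : Type*} [Group G] [Finite G] {z : G} {Q : Subgroup G}

/-- With these data the group is simple. -/
theorem sz_simple (D : LargeExt10.Sz z Q) : IsSimpleGroup G := by
  obtain ⟨F⟩ := D.exists_frame
  refine D.setup.isSimple F.pair.large fun N hN hzN => ?_
  have hinv : ∀ q ∈ Q, q * q = 1 → q ∈ N := by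
    intro q hq h2
    by_cases h1 : q = 1
    · rw [h1]; exact one_mem _
    · obtain ⟨g, hg⟩ := isConj_iff.1 (Frame.isConj_of_mem_Q F hq h2 h1)
      rw [← hg]; exact hN.conj_mem z hzN g
  have hQN : Q ≤ N := by
    intro x hx
    obtain ⟨k, hk, hkx⟩ := vc_surj (D.c x)
    have hk' : k < 64 := by simpa [codes] using hk
    obtain ⟨j, hj1, hj2⟩ := singular_sum ⟨k, hk'⟩
    obtain ⟨y, hy, hcy⟩ := D.coords.surj (vc j.val)
    have hyN : y ∈ N := hinv y hy ((D.sq_eq_one hy).2 (by rw [hcy, q_vc j.isLt, hj1]; rfl))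
    have hxyN : x * y ∈ N := by
      refine hinv _ (mul_mem hx hy) ((D.sq_eq_one (mul_mem hx hy)).2 ?_)
      rw [D.coords.mul x hx y hy, ← hkx, hcy, ← vc_xor,
        q_vc (Nat.xor_lt_two_pow (n := 6) hk' j.isLt), hj2]
      rfl
    simpa using mul_mem hxyN (inv_mem hyN)
  obtain ⟨r, hr, hrQ⟩ : ∃ r ∈ fixIn F.R z, r ∉ Q := by
    obtain ⟨r, hr, ha⟩ := F.exists_r B_aa
    refine ⟨r, hr, fun hrQ => ?_⟩
    obtain ⟨i, j, e⟩ := F.eq_el_of_small hrQ (F.inter_small hrQ (mem_fixIn.1 hr).1)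
    have hav : F.av r = 0 := by
      rw [Frame.av, Forms59.Inv.nmap_apply, (D.ρ_ker (mem_fixIn.1 hr).2).2 hrQ, Reflections.act_one]
      exact Forms59.Inv.add_self_vec _
    rcases ha with e' | e'
    · rw [hav] at e'
      have h0 := B_ab
      rw [← e', B6, polar_zero_left] at h0
      exact zero_ne_one h0
    · rw [hav] at e'
      have h0 := B_ab
      rw [show aa = v0 by
        have := congrArg (· + v0) e'
        simpa [add_assoc, Forms59.Inv.add_self_vec] using this.symm] at h0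
      rw [B6, polar_comm, show polar (⇑Q6) bb v0 = 0 from B_bb] at h0
      exact zero_ne_one h0
  have hRN : F.R ≤ N := by
    obtain ⟨g, -, hR⟩ := F.pair.conj
    rw [hR]
    rintro _ ⟨x, hx, rfl⟩
    exact hN.conj_mem x (hQN hx) g
  set C := Subgroup.centralizer ({z} : Set G) with hC
  have hcz : ∀ g : C, Commute (g : G) z := fun g => Subgroup.mem_centralizer_singleton_iff.1 g.2
  let ρC : C →* ↥(Cfsg.Omega (ZMod 2) ⇑Q6) :=
    { toFun := fun g => ⟨D.ρ g, D.ρ_mem (hcz g)⟩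
      map_one' := Subtype.ext D.rho_one
      map_mul' := fun g h => Subtype.ext (D.ρ_mul (hcz g) (hcz h)) }
  have hsurj : Function.Surjective ρC := fun γ => by
    obtain ⟨g, hg, e⟩ := D.ρ_surj γ.2
    exact ⟨⟨g, Subgroup.mem_centralizer_singleton_iff.2 hg.eq⟩, Subtype.ext e⟩
  haveI := omega6_simple
  rcases IsSimpleGroup.eq_bot_or_eq_top_of_normal _ ((hN.subgroupOf C).map ρC hsurj) with h | h
  · exfalso
    have hrC : r ∈ C := Subgroup.mem_centralizer_singleton_iff.2 (mem_fixIn.1 hr).2.eq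
    have hm : ρC ⟨r, hrC⟩ ∈ (N.subgroupOf C).map ρC := ⟨_, hRN (mem_fixIn.1 hr).1, rfl⟩
    rw [h, Subgroup.mem_bot] at hm
    exact hrQ ((D.ρ_ker (mem_fixIn.1 hr).2).1 (congrArg Subtype.val hm))
  · intro g hg
    obtain ⟨n, hn, e⟩ : ρC ⟨g, hg⟩ ∈ (N.subgroupOf C).map ρC := h ▸ Subgroup.mem_top _
    have hq : (n : G)⁻¹ * g ∈ Q := by
      refine (D.ρ_ker ((hcz n).inv_left.mul_left (hcz ⟨g, hg⟩))).1 ?_
      rw [D.ρ_mul (hcz n).inv_left (hcz ⟨g, hg⟩), D.rho_inv (hcz n), inv_mul_eq_one]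
      exact congrArg Subtype.val e
    simpa using mul_mem (show (n : G) ∈ N from hn) (hQN hq)

/-- Recognition: the hypothesis and simplicity from the order of the quotient. -/
theorem suz_recog {z : G} (hz : orderOf z = 2)
    (Q : Subgroup (Subgroup.centralizer ({z} : Set G))) [hQn : Q.Normal]
    (hQ : Cfsg.IsExtraspecial 2 Q) (hcard : Nat.card Q = 2 ^ 7)
    (hzQ : ∀ h : z ∈ Subgroup.centralizer ({z} : Set G), (⟨z, h⟩ : Subgroup.centralizer ({z} : Set G)) ∈ Q)
    (hcent : Subgroup.centralizer (Q : Set (Subgroup.centralizer ({z} : Set G))) ≤ Q)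
    (hidx : Nat.card (Subgroup.centralizer ({z} : Set G) ⧸ Q) = 25920)
    (hnwc : ∃ g : G, (∃ hq : g * z * g⁻¹ ∈ Subgroup.centralizer ({z} : Set G),
      (⟨g * z * g⁻¹, hq⟩ : Subgroup.centralizer ({z} : Set G)) ∈ Q) ∧ g * z * g⁻¹ ≠ z) :
    IsSimpleGroup G ∧ ¬ IsMulCommutative G ∧
      Cfsg.generalizedFittingSubgroup (Subgroup.centralizer ({z} : Set G)) = Q ∧
      Nonempty ((Subgroup.centralizer ({z} : Set G)) ⧸ Q ≃*
        Cfsg.Omega (ZMod 2) (Cfsg.quadFormMinus 2 (ZMod 2) 1 1)) := by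
  set Q' := Q.map (Subgroup.centralizer ({z} : Set G)).subtype with hQ'
  have hle : Q' ≤ (Subgroup.centralizer ({z} : Set G)) := Subgroup.map_subtype_le Q
  have hE : Cfsg.IsExtraspecial 2 ↥Q' :=
    LargeExtraspecial.isExtraspecial_equiv (Q.equivMapOfInjective _ (Subgroup.centralizer ({z} : Set G)).subtype_injective) hQ
  have hmem : ∀ h : (Subgroup.centralizer ({z} : Set G)), (h : G) ∈ Q' ↔ h ∈ Q := fun h =>
    Subgroup.mem_map_iff_mem (Subgroup.centralizer ({z} : Set G)).subtype_injective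
  have hzC : z ∈ (Subgroup.centralizer ({z} : Set G)) := Subgroup.mem_centralizer_singleton_iff.2 rfl
  have hzQ' : z ∈ Q' := (hmem ⟨z, hzC⟩).2 (hzQ hzC)
  have hzp : (Subgroup.center Q').map Q'.subtype = Subgroup.zpowers z := by
    symm
    refine Subgroup.eq_of_le_of_card_ge (Subgroup.zpowers_le.2 ⟨⟨z, hzQ'⟩, ?_, rfl⟩) ?_
    · exact Subgroup.mem_center_iff.2 fun q => Subtype.ext
        (Subgroup.mem_centralizer_singleton_iff.1 (hle q.2))
    · rw [Subgroup.card_map_of_injective Q'.subtype_injective, hE.2, Nat.card_zpowers, hz]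
  have S : Setup Q' z := by
    refine ⟨hE, hzp, le_antisymm ?_ ?_, ?_⟩
    · intro x hx
      rw [Subgroup.mem_centralizer_iff] at hx
      have hxC : x ∈ (Subgroup.centralizer ({z} : Set G)) := Subgroup.mem_centralizer_singleton_iff.2 (hx z hzQ').symm
      have hxQ : x ∈ Q' := (hmem ⟨x, hxC⟩).2 (hcent (Subgroup.mem_centralizer_iff.2
        fun y hy => Subtype.ext (hx y ((hmem y).2 hy))))
      rw [← hzp]
      exact ⟨⟨x, hxQ⟩, Subgroup.mem_center_iff.2 fun y => Subtype.ext (hx y y.2), rfl⟩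
    · exact Subgroup.zpowers_le.2 (Subgroup.mem_centralizer_iff.2 fun y hy =>
        Subgroup.mem_centralizer_singleton_iff.1 (hle hy))
    · intro x hx
      rw [Subgroup.mem_normalizer_iff]
      intro q
      constructor
      · intro hq
        obtain ⟨y, hy, rfl⟩ := hq
        exact ⟨⟨x, hx⟩ * y * ⟨x, hx⟩⁻¹, hQn.conj_mem y hy _, rfl⟩
      · intro hq
        obtain ⟨y, hy, e⟩ := hq
        refine ⟨⟨x, hx⟩⁻¹ * y * ⟨x, hx⟩, ?_, ?_⟩
        · have := hQn.conj_mem y hy ⟨x, hx⟩⁻¹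
          rwa [inv_inv] at this
        · show x⁻¹ * (y : G) * x = q
          rw [show (y : G) = x * q * x⁻¹ from e]; group
  have hc7 : Nat.card Q' = 128 := by
    rw [Subgroup.card_map_of_injective (Subgroup.centralizer ({z} : Set G)).subtype_injective, hcard]; rfl
  have hker : ∀ (ι : Type) (inst : Fintype ι) (inst' : DecidableEq ι)
      (f : QuadraticForm (ZMod 2) (ι → ZMod 2)) (ρ : (Subgroup.centralizer ({z} : Set G)) →* ↥(Cfsg.isometryGroup (ZMod 2) ⇑f)),
      (∀ g, ρ g = 1 ↔ (g : G) ∈ Q') → ρ.ker = Q := by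
    intro ι _ _ f ρ hk
    exact Subgroup.ext fun g => by rw [MonoidHom.mem_ker, hk, hmem]
  obtain ⟨e⟩ : Nonempty ((Subgroup.centralizer ({z} : Set G)) ⧸ Q ≃* ↥(Cfsg.Omega (ZMod 2) ⇑Q6)) := by
    rcases TwoFusionB.exists_coords hE (n := 3) (by norm_num) (by rw [hc7]; rfl) with ⟨c, hc⟩ | ⟨c, hc⟩
    · exfalso
      rw [← coe_qPlus 3 (ZMod 2)] at hc
      obtain ⟨c', hc'⟩ := coords_of S hc
      obtain ⟨ρ, -, hk⟩ := exists_rho S hc'
      have h1 := Subgroup.card_subgroup_dvd_card ρ.range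
      rw [← Subgroup.index_ker, hker _ _ _ _ ρ hk, Subgroup.index_eq_card, hidx] at h1
      rw [coe_qPlus, S0287.result (F := ZMod 2) (q := 2) (ZMod.card 2) 3 (by norm_num)] at h1
      revert h1
      decide
    · replace hc : TwoFusionB.XCoords (⇑Q6) c := by rw [coe_qMinus]; exact hc
      obtain ⟨c', hc'⟩ := coords_of S hc
      obtain ⟨ρ, -, hk⟩ := exists_rho S hc'
      obtain ⟨hO, hOi⟩ := card_omega6
      have hcr : Nat.card ρ.range = 25920 := by
        rw [← Subgroup.index_ker, hker _ _ _ _ ρ hk, Subgroup.index_eq_card, hidx]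
      have hri : ρ.range.index = 2 := by
        have h1 := ρ.range.card_mul_index
        have h2 := (Cfsg.Omega (ZMod 2) ⇑Q6).card_mul_index
        rw [hO, hOi] at h2
        rw [hcr, ← h2] at h1
        omega
      haveI := Subgroup.normal_of_index_eq_two hri
      have hle' : Cfsg.Omega (ZMod 2) ⇑Q6 ≤ ρ.range := by
        haveI : IsMulCommutative (↥(Cfsg.isometryGroup (ZMod 2) ⇑Q6) ⧸ ρ.range) := by
          haveI : Fact (Nat.Prime 2) := ⟨Nat.prime_two⟩
          haveI := isCyclic_of_prime_card (α := ↥(Cfsg.isometryGroup (ZMod 2) ⇑Q6) ⧸ ρ.range) (p := 2)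
            (by rw [← Subgroup.index_eq_card, hri])
          exact ⟨⟨fun a b => (IsCyclic.commGroup.mul_comm a b)⟩⟩
        rw [Cfsg.Omega, commutator_def, Subgroup.commutator_le]
        intro a _ b _
        rw [← QuotientGroup.eq_one_iff, commutatorElement_def, QuotientGroup.mk_mul, QuotientGroup.mk_mul,
          QuotientGroup.mk_mul, QuotientGroup.mk_inv, QuotientGroup.mk_inv]
        rw [IsMulCommutative.is_comm.comm ((a : ↥(Cfsg.isometryGroup (ZMod 2) ⇑Q6) ⧸ ρ.range)) b]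
        group
      have heq : Cfsg.Omega (ZMod 2) ⇑Q6 = ρ.range :=
        Subgroup.eq_of_le_of_card_ge hle' (by rw [hcr, hO])
      exact ⟨((QuotientGroup.quotientMulEquivOfEq (hker _ _ _ _ ρ hk).symm).trans
        (QuotientGroup.quotientKerEquivRange ρ)).trans (MulEquiv.subgroupCongr heq.symm)⟩
  haveI : IsSimpleGroup ↥(Cfsg.Omega (ZMod 2) ⇑Q6) := omega6_simple
  have hF : Cfsg.generalizedFittingSubgroup (Subgroup.centralizer ({z} : Set G)) = Q := by
    haveI : Fact (Nat.Prime 2) := ⟨Nat.prime_two⟩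
    exact Co1Cent.genFitting_of_quot (IsPGroup.of_card (p := 2) hcard).isNilpotent
      (MulEquiv.isSimpleGroup e)
      (fun hs => omega6_not_solvable (solvable_of_surjective (f := e.toMonoidHom) e.surjective))
      hcent
  have e' : (Subgroup.centralizer ({z} : Set G)) ⧸ Q ≃* Cfsg.Omega (ZMod 2) (Cfsg.quadFormMinus 2 (ZMod 2) 1 1) := by
    rw [← coe_qMinus 2 (ZMod 2) 1 1]; exact e
  obtain ⟨Q'', ⟨D⟩⟩ := exists_sz z hz Q hF hQ hcard e' hnwc
  refine ⟨sz_simple D, ?_, hF, ⟨e'⟩⟩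
  intro hab
  obtain ⟨g, -, hne⟩ := hnwc
  exact hne (by rw [hab.is_comm.comm g z, mul_inv_cancel_right])

end Cfsg.Agent.Leech.Sec3
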