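import Cfsg.Agent.Lib.Leech.Sec3.Quot
import Cfsg.Agent.Lib.Leech.Sec3.Recog

/-!
# The section at an element of order three is simple of Suzuki sporadic type
-/

set_option autoImplicit false
set_option maxRecDepth 100000
set_option maxHeartbeats 2000000

namespace Cfsg.Agent.Leech.Sec3

open Cfsg Cfsg.Agent.Reflections Cfsg.Agent.Leech.Co1Cent
open Cfsg.Agent.Golay (idx pt toSet octadO idx_lt pt_idx idx_pt)
open Cfsg.Agent.Leech.Sec5 (Step okStep sameW wordEl wordEl_ext wordEl_append coe_wordEl frameL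
  vecL_frameL kW kW_ok wordEl_kW word_comm)

theorem negOne_sq : negOne * negOne = 1 := ext_frame fun i => by
  rw [mul_smul, negOne_smul, negOne_smul, neg_neg, one_smul]

theorem cov_inj_K0 {g h : ↥K0} (e : phi g.1 = phi h.1) : cov g.1.1 = cov h.1.1 := by
  have h1 : phi (g⁻¹ * h).1 = 1 := by
    rw [Subgroup.coe_mul, Subgroup.coe_inv, map_mul, map_inv, e, inv_mul_cancel]
  have h2 := (phi_eq_one_K0 (g⁻¹ * h).2).1 h1
  rw [Subgroup.coe_mul, Subgroup.coe_inv, Subgroup.coe_mul, Subgroup.coe_inv, map_mul, map_inv,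
    inv_mul_eq_one] at h2
  exact h2

theorem zS_eq : zS = ((phi (kel i0 jc zC_facts).1 : ↥CS) : S3t) := by
  show QuotientGroup.mk' NA (incl epsH) = QuotientGroup.mk' NA (incl (kel i0 jc zC_facts).1)
  rw [QuotientGroup.mk'_eq_mk']
  rcases mk1_eq_iff.1 (show mk1 (el i0 jc).1 = mk1 epsO from coe_wQ) with e' | e'
  · exact ⟨1, one_mem _, Subtype.ext (by
      show epsO * 1 = (el i0 jc).1
      rw [mul_one]; exact e')⟩
  · refine ⟨⟨negOne, mem_HA.2 (Subgroup.mem_center_iff.1 negOne_mem_center aA).symm⟩,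
      Subgroup.mem_sup_right negOne_mem_center, Subtype.ext ?_⟩
    show epsO * negOne = (el i0 jc).1
    rw [e', ← Subgroup.mem_center_iff.1 negOne_mem_center (el i0 jc).1, mul_assoc, negOne_sq,
      mul_one]

/-- The central involution of the kernel. -/
noncomputable def wC : ↥C1 := (wQ : ↥C1)

theorem wC_central (x : ↥C1) : Commute wC x := by
  refine Subtype.ext ?_
  show ((wQ : ↥C1) : Spor.Co1) * x.1 = x.1 * ((wQ : ↥C1) : Spor.Co1)
  rw [coe_wQ]
  exact (Subgroup.mem_centralizer_singleton_iff.1 x.2).symm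

/-- Its group. -/
noncomputable def ZC : Subgroup ↥C1 := Subgroup.zpowers wC

theorem ZC_commute {w : ↥C1} (hw : w ∈ ZC) (x : ↥C1) : Commute w x := by
  obtain ⟨n, rfl⟩ := Subgroup.mem_zpowers_iff.1 hw
  exact (wC_central x).zpow_left n

theorem coe_mem_ZC {x : ↥QC} : (x : ↥C1) ∈ ZC ↔ x ∈ Subgroup.zpowers wQ := by
  rw [ZC, Subgroup.mem_zpowers_iff, Subgroup.mem_zpowers_iff]
  refine exists_congr fun n => ⟨fun h => Subtype.ext ?_, fun h => ?_⟩
  · rw [SubgroupClass.coe_zpow]; exact h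
  · rw [← h, SubgroupClass.coe_zpow]; rfl

theorem ZC_le_QC : ZC ≤ QC := Subgroup.zpowers_le.2 wQ.2

theorem mem_ZC_iff {x : ↥C1} : x ∈ ZC ↔ x = 1 ∨ x = wC := by
  constructor
  · intro h
    obtain ⟨n, rfl⟩ := Subgroup.mem_zpowers_iff.1 h
    have h2 : wC ^ (2 : ℤ) = 1 := by
      refine Subtype.ext ?_
      rw [SubgroupClass.coe_zpow, OneMemClass.coe_one, show (wC : Spor.Co1) = zC from coe_wQ,
        zpow_two, ← pow_two, ← orderOf_zC, pow_orderOf_eq_one]
    rcases Int.even_or_odd' n with ⟨m, e | e⟩ <;> rw [e]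
    · exact Or.inl (by rw [zpow_mul, h2, one_zpow])
    · exact Or.inr (by rw [zpow_add, zpow_mul, h2, one_zpow, one_mul, zpow_one])
  · rintro (rfl | rfl)
    · exact one_mem _
    · exact Subgroup.mem_zpowers _

/-- The row of a moved pair. -/
noncomputable def mI (n : Fin 3) : Fin 16 := (mv_facts n).choose

/-- The column of a moved pair. -/
noncomputable def mJ (n : Fin 3) : Fin 32 := (mv_facts n).choose_spec.2.choose

theorem tab_mI (n : Fin 3) : tabN (mI n) = (mv n.val).1 := (mv_facts n).choose_spec.1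

theorem mask_mJ (n : Fin 3) : maskN (mJ n) = (mv n.val).2 := (mv_facts n).choose_spec.2.choose_spec

/-- A moved element. -/
noncomputable def uC (n : Fin 3) : ↥C1 := (q9 (mI n, mJ n) : ↥C1)

theorem uC_mem (n : Fin 3) : uC n ∈ QC := (q9 (mI n, mJ n)).2

theorem q9_mem_ZC {i : Fin 16} {j : Fin 32} (h : (q9 (i, j) : ↥C1) ∈ ZC) :
    tabN i = Golay.idTab ∧ (maskN j = 0 ∨ maskN j = ocMask) := by
  rcases mem_ZC_iff.1 h with h | h
  · have h1 : q9 (i, j) = q9 (i0, j0) := by rw [q9_eq_one]; exact Subtype.ext h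
    have h2 := q9_bijective.1 h1
    rw [Prod.mk.injEq] at h2
    rw [h2.1, h2.2]
    exact ⟨tab_i0, Or.inl mask_j0⟩
  · have h1 : q9 (i, j) = q9 (i0, jc) := Subtype.ext h
    have h2 := q9_bijective.1 h1
    rw [Prod.mk.injEq] at h2
    rw [h2.1, h2.2]
    exact ⟨tab_i0, Or.inr mask_jc⟩

theorem q9_xor (i : Fin 16) (j j' : Fin 32) (h : maskN j' = maskN j ^^^ ocMask) :
    q9 (i0, jc) * q9 (i, j) = q9 (i, j') :=
  q9_mul_eq (by rw [sigT_i0, one_mul]) (by rw [img_trivial.1 j, mask_jc, Nat.xor_comm, h])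

theorem q9_div_mem_ZC {i i' : Fin 16} {j j' : Fin 32}
    (h : (q9 (i', j') : ↥C1) * ((q9 (i, j) : ↥C1))⁻¹ ∈ ZC) :
    tabN i' = tabN i ∧ (maskN j' = maskN j ∨ maskN j' = maskN j ^^^ ocMask) := by
  rcases mem_ZC_iff.1 h with h | h
  · rw [mul_inv_eq_one] at h
    have h2 := q9_bijective.1 (Subtype.ext h : q9 (i', j') = q9 (i, j))
    rw [Prod.mk.injEq] at h2
    exact ⟨by rw [h2.1], Or.inl (by rw [h2.2])⟩
  · rw [mul_inv_eq_iff_eq_mul] at h
    obtain ⟨e1, e2⟩ := Sec5.q9_mul_left i j (Subtype.ext h : q9 (i', j') = wQ * q9 (i, j))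
    exact ⟨e1, Or.inr e2⟩

theorem uC_not_Z (n : Fin 3) : uC n ∉ ZC := fun h =>
  (moved_out n n (mI n) (mJ n) (tab_mI n) (mask_mJ n)).2 (q9_mem_ZC h)

theorem uC_distinct {n n' : Fin 3} (hne : n ≠ n') : uC n' * (uC n)⁻¹ ∉ ZC := fun h =>
  (moved_out n n' (mI n) (mJ n) (tab_mI n) (mask_mJ n)).1 (mI n') (mJ n') (tab_mI n') (mask_mJ n')
    hne (q9_div_mem_ZC h)

theorem sigT_comm (i i' : Fin 16) : sigT i * sigT i' = sigT i' * sigT i :=
  Subtype.ext (Golay.tab_unique ((tab_sigT i).mul (tab_sigT i'))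
    (by rw [tab_comm i i']; exact (tab_sigT i').mul (tab_sigT i)))

theorem commute_of_masks {i i' : Fin 16} {j j' : Fin 32}
    (h : maskN j ^^^ imgMask (tabN i) (maskN j') = maskN j' ^^^ imgMask (tabN i') (maskN j)) :
    Commute (q9 (i, j) : ↥C1) (q9 (i', j') : ↥C1) := by
  obtain ⟨h1, e1, -⟩ := el_mul i i' j j'
  obtain ⟨h2, e2, -⟩ := el_mul i' i j' j
  refine Subtype.ext ?_
  show mk1 (el i j * el i' j').1 = mk1 (el i' j' * el i j).1
  rw [e1, e2]
  exact congrArg mk1 (mono_congr (sigT_comm i i') (by rw [h]))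

/-- The centralizer of the element of order three in the kernel. -/
noncomputable abbrev RC : Subgroup ↥C1 := toC1.range

theorem RC_le : RC ≤ QC := by
  intro x hx
  obtain ⟨i, j, -, rfl⟩ := range_spec hx
  exact (q9 (i, j)).2

theorem q9_mem_RC {i : Fin 16} {j : Fin 32} (h : cK i j = true) : (q9 (i, j) : ↥C1) ∈ RC :=
  ⟨kel i j h, rfl⟩

theorem wC_mem_RC : wC ∈ RC := q9_mem_RC zC_facts

theorem ZC_le_RC : ZC ≤ RC := Subgroup.zpowers_le.2 wC_mem_RC

theorem uC_comm (n : Fin 3) {x : ↥C1} (hx : x ∈ RC) : Commute x (uC n) := by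
  obtain ⟨i, j, hc, rfl⟩ := range_spec hx
  refine commute_of_masks ?_
  have h := moved_cm n i j hc
  rw [cmK, ← mask_mJ n, ← tab_mI n, ← Sec5.kTab_eq, ← Sec5.kMask_eq] at h
  exact eq_of_beq h

/-- The image of the element of order three. -/
noncomputable def aB : ↥C1 := cov aC

theorem aB_comm {x : ↥C1} (hx : x ∈ RC) : Commute aB x := by
  obtain ⟨g, rfl⟩ := hx
  show cov aC * cov g.1.1 = cov g.1.1 * cov aC
  rw [← map_mul, ← map_mul, mem_H0.1 g.1.2]

theorem aB_step (n : Fin 3) : aB * uC n * aB⁻¹ = uC (n + 1) := by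
  have hn : ((n + 1 : Fin 3) : ℕ) = (n.val + 1) % 3 := by rw [Fin.val_add]; rfl
  have h := cyc_facts n
  rw [show (some (mv n.val) : Step) = some (tabN (mI n), maskN (mJ n)) by rw [tab_mI, mask_mJ],
    show (some (mv ((n.val + 1) % 3)) : Step) = some (tabN (mI (n + 1)), maskN (mJ (n + 1))) by
      rw [tab_mI, mask_mJ, hn]] at h
  have e := wordEl_ext (w := aW ++ kW (mI n) (mJ n)) (w' := kW (mI (n + 1)) (mJ (n + 1)) ++ aW)
    (by rw [List.all_append, show aW.all okStep = true from (gen_ok 0).1, kW_ok]; rfl)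
    (by rw [List.all_append, show aW.all okStep = true from (gen_ok 0).1, kW_ok]; rfl) h
  rw [wordEl_append, wordEl_append, wordEl_kW, wordEl_kW] at e
  rw [mul_inv_eq_iff_eq_mul]
  show cov aC * cov (el (mI n) (mJ n)) = cov (el (mI (n + 1)) (mJ (n + 1))) * cov aC
  rw [← map_mul, ← map_mul]
  exact congrArg cov (Subtype.ext e)

theorem aB_iter : ∀ (m : ℕ) (n : Fin 3),
    aB ^ m * uC n * (aB ^ m)⁻¹ = uC (n + Fin.ofNat 3 m)
  | 0, n => by
    rw [pow_zero, one_mul, inv_one, mul_one, show Fin.ofNat 3 0 = 0 from rfl, add_zero]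
  | m + 1, n => by
    rw [pow_succ', _root_.mul_inv_rev, show aB * aB ^ m * uC n * ((aB ^ m)⁻¹ * aB⁻¹) =
      aB * (aB ^ m * uC n * (aB ^ m)⁻¹) * aB⁻¹ by group, aB_iter m n, aB_step, add_assoc]
    congr 2
    apply Fin.ext
    simp [Fin.val_add, Fin.ofNat]

theorem uC_not_RC (n : Fin 3) : uC n ∉ RC := by
  intro h
  have e := aB_step n
  rw [(aB_comm h).eq, mul_inv_cancel_right] at e
  refine uC_distinct (n := n) (n' := n + 1) ((by decide : ∀ n : Fin 3, n ≠ n + 1) n) ?_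
  rw [← e, mul_inv_cancel]
  exact one_mem _

theorem cent_RC {x : ↥C1} (hxQ : x ∈ QC) (hx : ∀ y ∈ RC, Commute x y) :
    x ∈ ZC ∨ ∃ n, x * (uC n)⁻¹ ∈ ZC := by
  obtain ⟨⟨i, j⟩, e⟩ := q9_bijective.2 ⟨x, hxQ⟩
  have hx' : x = (q9 (i, j) : ↥C1) := (congrArg Subtype.val e).symm
  subst hx'
  have h := cent_facts i j (List.all_eq_true.2 fun k hk => ?_)
  · simp only [inW, ← Sec5.kTab_eq, ← Sec5.kMask_eq, Bool.or_eq_true, Bool.and_eq_true, beq_iff_eq, List.any_eq_true,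
      List.mem_range] at h
    rcases h with ⟨hi, hj⟩ | ⟨k, hk, hi, hj⟩
    · have hii : i = i0 := tab_facts.2.1 (hi.trans tab_i0.symm)
      subst hii
      refine Or.inl ?_
      rcases hj with hj | hj
      · rw [tab_facts.2.2.1 (hj.trans mask_j0.symm), q9_eq_one]; exact one_mem _
      · rw [tab_facts.2.2.1 (hj.trans mask_jc.symm)]; exact Subgroup.mem_zpowers _
    · have hii : i = mI ⟨k, hk⟩ := tab_facts.2.1 (hi.trans (tab_mI ⟨k, hk⟩).symm)
      subst hii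
      refine Or.inr ⟨⟨k, hk⟩, ?_⟩
      rcases hj with hj | hj
      · rw [tab_facts.2.2.1 (hj.trans (mask_mJ ⟨k, hk⟩).symm), uC, mul_inv_cancel]; exact one_mem _
      · have e2 := q9_xor (mI ⟨k, hk⟩) (mJ ⟨k, hk⟩) j (by rw [mask_mJ]; exact hj)
        rw [← e2, Subgroup.coe_mul, uC, mul_inv_cancel_right]
        exact Subgroup.mem_zpowers _
  · rw [List.mem_range] at hk
    obtain ⟨i', hi', j', hj', hc⟩ := gR_facts.2 ⟨k, hk⟩
    have hcm : Commute (q9 (i, j)) (q9 (i', j')) := Subtype.ext (hx _ (q9_mem_RC hc)).eq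
    have h2 := commute_facts hcm
    rw [hi', hj'] at h2
    rw [cmK, ← Sec5.kTab_eq, ← Sec5.kMask_eq]
    exact beq_iff_eq.2 h2

theorem RC_centre {x : ↥C1} (hxR : x ∈ RC) (hx : ∀ y ∈ RC, Commute x y) : x ∈ ZC := by
  refine (cent_RC (RC_le hxR) hx).resolve_right ?_
  rintro ⟨n, hn⟩
  refine uC_not_RC n ?_
  rw [show uC n = (x * (uC n)⁻¹)⁻¹ * x by group]
  exact mul_mem (inv_mem (ZC_le_RC hn)) hxR

/-- The four cosets. -/
noncomputable def uO : Option (Fin 3) → ↥C1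
  | none => 1
  | some n => uC n

theorem cosets {y : ↥C1} (hy : y ∈ QC) : ∃ r ∈ RC, ∃ o, y = r * uO o := by
  have hm : ∀ o, uO o ∈ QC := by
    intro o; cases o
    · exact one_mem _
    · exact uC_mem _
  have hc : ∀ o, ∀ r ∈ RC, Commute r (uO o) := by
    intro o r hr; cases o
    · exact Commute.one_right r
    · exact uC_comm _ hr
  have hd : ∀ o o', uO o' * (uO o)⁻¹ ∈ ZC → o = o' := by
    intro o o' h
    cases o <;> cases o'
    · rfl
    · rw [uO, uO, inv_one, mul_one] at h; exact absurd h (uC_not_Z _)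
    · rw [uO, uO, one_mul, inv_mem_iff] at h; exact absurd h (uC_not_Z _)
    · exact congrArg some (by_contra fun hne => uC_distinct hne h)
  haveI : Finite ↥QC := Nat.finite_of_card_ne_zero (by rw [card_QC]; norm_num)
  let f : ↥RC × Option (Fin 3) → ↥QC := fun p => ⟨p.1.1 * uO p.2, mul_mem (RC_le p.1.2) (hm p.2)⟩
  have hf : Function.Injective f := by
    rintro ⟨r, o⟩ ⟨r', o'⟩ e
    have e' : r.1 * uO o = r'.1 * uO o' := congrArg Subtype.val e
    have h1 : uO o' * (uO o)⁻¹ = r'.1⁻¹ * r.1 := by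
      rw [mul_inv_eq_iff_eq_mul, mul_assoc, e', inv_mul_cancel_left]
    have h2 : uO o' * (uO o)⁻¹ ∈ ZC := RC_centre (h1 ▸ mul_mem (inv_mem r'.2) r.2) fun z hz =>
      ((hc o' z hz).mul_right (hc o z hz).inv_right).symm
    obtain rfl := hd _ _ h2
    exact Prod.ext (Subtype.ext (mul_right_cancel e')) rfl
  have hcard : Nat.card ↥QC ≤ Nat.card (↥RC × Option (Fin 3)) := by
    rw [card_QC, Nat.card_prod, card_range, Nat.card_eq_fintype_card, Fintype.card_option,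
      Fintype.card_fin]
    norm_num
  obtain ⟨⟨r, o⟩, e⟩ := (hf.bijective_of_nat_card_le hcard).2 ⟨y, hy⟩
  exact ⟨r, r.2, o, (congrArg Subtype.val e).symm⟩

theorem inner {c : ↥C1} (hc : ∀ y ∈ QC, c * y * c⁻¹ * y⁻¹ ∈ ZC) : c ∈ QC := by
  haveI : Finite Co0 := finite_Co0 codeUnique
  haveI := simple_commutator
  obtain ⟨e⟩ := quot_equiv
  have hF : generalizedFittingSubgroup C1 = QC := by
    have : Fact (Nat.Prime 2) := ⟨Nat.prime_two⟩
    exact genFitting_of_quot (IsPGroup.of_card card_QC).isNilpotent (MulEquiv.isSimpleGroup e)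
      (fun hs => not_solvable_commutator
        (solvable_of_surjective (f := e.toMonoidHom) e.surjective))
      centralizer_QC
  have S := LargeExtraspecial.setup_of_centralizer (Q := QC.map C1.subtype) orderOf_zC
    (Subgroup.map_subtype_le QC) (by rw [hF])
    (LargeExtraspecial.isExtraspecial_equiv
      (QC.equivMapOfInjective _ C1.subtype_injective) QC_extraspecial)
  have h : (c : Spor.Co1) ∈ QC.map C1.subtype := by
    refine S.inner_of_commutator_mem ?_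
    rintro _ ⟨y, hy, rfl⟩
    rcases mem_ZC_iff.1 (hc y hy) with e | e
    · have := congrArg Subtype.val e
      rw [show (c : Spor.Co1) * (C1.subtype y) * (c : Spor.Co1)⁻¹ * (C1.subtype y)⁻¹ = 1 from this]
      exact one_mem _
    · have := congrArg Subtype.val e
      rw [show (c : Spor.Co1) * (C1.subtype y) * (c : Spor.Co1)⁻¹ * (C1.subtype y)⁻¹ = zC from
        this.trans coe_wQ]
      exact Subgroup.mem_zpowers _
  exact (Subgroup.mem_map_iff_mem C1.subtype_injective).1 h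

theorem fix_inner {c : ↥C1} (hfix : ∀ y ∈ RC, Commute c y) (hga : Commute c aB) :
    ∃ m : ℕ, aB ^ m * c ∈ QC := by
  have hQn : ∀ y ∈ QC, c * y * c⁻¹ ∈ QC := fun y hy => Subgroup.Normal.conj_mem inferInstance y hy c
  have h0 : c * uC 0 * c⁻¹ ∈ QC := hQn _ (uC_mem 0)
  have h0c : ∀ y ∈ RC, Commute (c * uC 0 * c⁻¹) y := fun y hy =>
    (((hfix y hy).mul_left (uC_comm 0 hy).symm).mul_left (hfix y hy).inv_left)
  obtain ⟨k, hk⟩ : ∃ k, c * uC 0 * c⁻¹ * (uC k)⁻¹ ∈ ZC := by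
    refine (cent_RC h0 h0c).resolve_left fun h => uC_not_Z 0 ?_
    have := ZC_commute h c
    rw [show uC 0 = c⁻¹ * (c * uC 0 * c⁻¹) * c by group, mul_assoc, this.eq, ← mul_assoc,
      inv_mul_cancel, one_mul]
    exact h
  set m : ℕ := 3 - k.val
  set c' := aB ^ m * c with hc'
  have hkm : k + Fin.ofNat 3 m = 0 := by
    have : ∀ k : Fin 3, k + Fin.ofNat 3 (3 - k.val) = 0 := by decide
    exact this k
  have h00 : c' * uC 0 * c'⁻¹ * (uC 0)⁻¹ ∈ ZC := by
    have e := aB_iter m k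
    rw [hkm] at e
    have e2 : c' * uC 0 * c'⁻¹ * (uC 0)⁻¹ =
        aB ^ m * (c * uC 0 * c⁻¹ * (uC k)⁻¹) * (aB ^ m)⁻¹ := by
      rw [← e, hc']; group
    rw [e2, ← (ZC_commute hk (aB ^ m)).eq, mul_inv_cancel_right]
    exact hk
  have hca : Commute c' aB := ((Commute.refl aB).pow_left m).mul_left hga
  have hn : ∀ n : Fin 3, c' * uC n * c'⁻¹ * (uC n)⁻¹ ∈ ZC := by
    intro n
    have e := aB_iter n.val 0
    rw [(by decide : ∀ n : Fin 3, (0 : Fin 3) + Fin.ofNat 3 n.val = n) n] at e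
    have hcn : Commute c' (aB ^ n.val) := hca.pow_right _
    have e2 : c' * uC n * c'⁻¹ * (uC n)⁻¹ =
        aB ^ n.val * (c' * uC 0 * c'⁻¹ * (uC 0)⁻¹) * (aB ^ n.val)⁻¹ := by
      rw [← e]
      calc c' * (aB ^ n.val * uC 0 * (aB ^ n.val)⁻¹) * c'⁻¹ * (aB ^ n.val * uC 0 * (aB ^ n.val)⁻¹)⁻¹ =
          (c' * aB ^ n.val) * uC 0 * (c' * aB ^ n.val)⁻¹ *
            (aB ^ n.val * (uC 0)⁻¹ * (aB ^ n.val)⁻¹) := by group
        _ = (aB ^ n.val * c') * uC 0 * (aB ^ n.val * c')⁻¹ *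
            (aB ^ n.val * (uC 0)⁻¹ * (aB ^ n.val)⁻¹) := by rw [hcn.eq]
        _ = _ := by group
    rw [e2, ← (ZC_commute h00 _).eq, mul_inv_cancel_right]
    exact h00
  have hin : c' ∈ QC := by
    refine inner fun y hy => ?_
    obtain ⟨r, hr, o, rfl⟩ := cosets hy
    have hrc : c' * r * c'⁻¹ = r := by
      have h : Commute c' r := ((aB_comm hr).pow_left m).mul_left (hfix r hr)
      rw [h.eq, mul_inv_cancel_right]
    have ho : c' * uO o * c'⁻¹ * (uO o)⁻¹ ∈ ZC := by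
      cases o with
      | none => rw [uO, mul_one, mul_inv_cancel, one_mul, inv_one]; exact one_mem _
      | some n => exact hn n
    have e : c' * (r * uO o) * c'⁻¹ * (r * uO o)⁻¹ = r * (c' * uO o * c'⁻¹ * (uO o)⁻¹) * r⁻¹ := by
      calc c' * (r * uO o) * c'⁻¹ * (r * uO o)⁻¹ =
          (c' * r * c'⁻¹) * (c' * uO o * c'⁻¹ * (uO o)⁻¹) * r⁻¹ := by group
        _ = _ := by rw [hrc]
    rw [e, ← (ZC_commute ho r).eq, mul_inv_cancel_right]
    exact ho
  exact ⟨m, hin⟩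

theorem centralizer_Q7 : Subgroup.centralizer (Q7 : Set ↥CS) ≤ Q7 := by
  intro x hx
  obtain ⟨g, rfl⟩ := phi_surjective x
  have hfix : ∀ y ∈ RC, Commute (cov g.1) y := by
    rintro _ ⟨k, rfl⟩
    have h1 : g * k.1 * g⁻¹ ∈ K0 := K0_normal.conj_mem _ k.2 g
    have h2 : phi (g * k.1 * g⁻¹) = phi k.1 := by
      rw [map_mul, map_mul, map_inv, ← Subgroup.mem_centralizer_iff.1 hx (phi k.1) ⟨k.1, k.2, rfl⟩,
        mul_inv_cancel_right]
    have h3 := cov_inj_K0 (g := ⟨_, h1⟩) (h := k) h2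
    rw [Subgroup.coe_mul, Subgroup.coe_mul, Subgroup.coe_inv, map_mul, map_mul, map_inv,
      mul_inv_eq_iff_eq_mul] at h3
    exact h3
  have hga : Commute (cov g.1) aB := by
    show cov g.1 * cov aC = cov aC * cov g.1
    rw [← map_mul, ← map_mul, mem_H0.1 g.2]
  obtain ⟨m, hin⟩ := fix_inner hfix hga
  have hpm : aC ^ m ∈ H0 := H0.pow_mem (gC_mem 0) m
  obtain ⟨e, he, hee⟩ := hin
  have hrep : rep8 (aC ^ m * g.1) = 1 := by
    have h1 : cov e = cov (aC ^ m * g.1) := by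
      rw [hee, map_mul, map_pow]; rfl
    rcases cov_eq_iff.1 h1 with h2 | h2
    · rw [h2]; exact MonoidHom.mem_ker.1 he
    · rw [h2, map_mul, rep8_negC, one_mul]; exact MonoidHom.mem_ker.1 he
  have hb : phi (⟨aC ^ m, hpm⟩ : ↥H0) = 1 := phi_eq_one.2 ⟨m, Or.inl rfl⟩
  have hK : (⟨aC ^ m, hpm⟩ : ↥H0) * g ∈ K0 := mem_K0.2 (by rw [Subgroup.coe_mul]; exact hrep)
  have hQ : phi ((⟨aC ^ m, hpm⟩ : ↥H0) * g) ∈ Q7 := Subgroup.mem_map_of_mem phi hK
  rw [map_mul, hb, one_mul] at hQ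
  exact hQ

theorem range_extraspecial : Cfsg.IsExtraspecial 2 RC := by
  haveI : Finite ↥RC := Nat.finite_of_card_ne_zero (by rw [card_range]; norm_num)
  let ι : ↥RC →* ↥QC := Subgroup.inclusion RC_le
  have hι : Function.Injective ι := Subgroup.inclusion_injective RC_le
  let w : ↥RC := ⟨wC, wC_mem_RC⟩
  have hw : ι w = wQ := rfl
  have hback : ∀ x : ↥RC, ι x ∈ Subgroup.zpowers wQ → x ∈ Subgroup.zpowers w := by
    intro x hx
    obtain ⟨n, hn⟩ := Subgroup.mem_zpowers_iff.1 hx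
    exact Subgroup.mem_zpowers_iff.2 ⟨n, hι (by rw [map_zpow, hw, hn])⟩
  refine LargeExtraspecial.isExtraspecial_of (c := w)
    (IsPGroup.of_card (n := 7) (by rw [card_range]; rfl)) (fun h => wQ_ne (by rw [← hw, h, map_one]))
    (hι ?_) (fun x => ?_) (fun x hx => ?_) (fun x y => hback _ ?_) (fun x => hback _ ?_) ?_
  · rw [map_mul, hw, map_one]
    refine Subtype.ext (Subtype.ext ?_)
    show ((wQ : ↥C1) : Spor.Co1) * ((wQ : ↥C1) : Spor.Co1) = 1
    rw [coe_wQ, ← pow_two, ← orderOf_zC, pow_orderOf_eq_one]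
  · exact hι (by rw [map_mul, map_mul, hw, (wQ_central _).eq])
  · refine hback x (coe_mem_ZC.1 (RC_centre x.2 fun y hy => ?_))
    exact congrArg Subtype.val (hx ⟨y, hy⟩).eq
  · rw [map_commutatorElement]; exact comm_mem _ _
  · rw [map_mul]; exact sq_mem _
  · by_contra hall
    push Not at hall
    have hle : RC ≤ ZC := fun x hx => RC_centre hx fun y hy =>
      congrArg Subtype.val (commutatorElement_eq_one_iff_commute.1 (hall ⟨x, hx⟩ ⟨y, hy⟩)).eq
    haveI : Finite ↥QC := Nat.finite_of_card_ne_zero (by rw [card_QC]; norm_num)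
    haveI : Finite ↥ZC := Finite.of_injective _ (Subgroup.inclusion_injective ZC_le_QC)
    have h := Subgroup.card_le_of_le hle
    rw [card_range, ZC, Nat.card_zpowers] at h
    have : orderOf wC = 2 := by
      rw [← orderOf_zC, ← coe_wQ, ← orderOf_injective C1.subtype C1.subtype_injective]; rfl
    omega

theorem Q7_extraspecial : Cfsg.IsExtraspecial 2 Q7 := by
  obtain ⟨e⟩ := Q7_equiv
  exact LargeExtraspecial.isExtraspecial_equiv e range_extraspecial

theorem kel_mem_Q7 (i : Fin 16) (j : Fin 32) (h : cK i j = true) : phi (kel i j h).1 ∈ Q7 :=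
  ⟨_, (kel i j h).2, rfl⟩

theorem exists_conj_in : ∃ u : ↥CS, u ∈ Q7 ∧ (u : S3t) ≠ zS ∧ IsConj zS (u : S3t) := by
  obtain ⟨j, -, hjne, hall⟩ := tau_octad
  obtain ⟨hc, hs⟩ := hall i0 tab_i0
  have hte : wordEl tauW * wordEl aW = wordEl aW * wordEl tauW :=
    word_comm tau_ok.1 (gen_ok 0).1 tau_ok.2
  have hoct : (List.all [(some (Golay.idTab, octadO) : Step)] okStep) = true := by decide +kernel
  have heps : wordEl [(some (Golay.idTab, octadO) : Step)] = epsO := by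
    refine ext_frame fun p => Subtype.ext ?_
    rw [coe_wordEl _ hoct _ _ (funext (vecL_frameL p)), coe_epsO_smul]
    show vecL (Sec5.stepL (some (Golay.idTab, octadO)) (frameL (idx p))) = _
    rw [Sec5.vecL_stepL, ← show (frame p : GolayPt → ℤ) = vecL (frameL (idx p)) from
      funext (vecL_frameL p)]
    have hid : ∀ q : GolayPt, pt (Golay.idTab.getD (idx q) 0) = q := by decide +kernel
    funext q
    simp only [Sec5.stepFun, monVec, signedPerm, hid,
      show ∀ r, (Equiv.symm (1 : Equiv.Perm GolayPt)) r = r from fun _ => rfl]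
    rfl
  have hsum : wordEl tauW * epsO = (el i0 j).1 * wordEl tauW := by
    rw [← heps, ← wordEl_kW, ← wordEl_append, ← wordEl_append]
    exact wordEl_ext (by rw [List.all_append, tau_ok.1, hoct]; rfl)
      (by rw [List.all_append, tau_ok.1, kW_ok]; rfl) hs
  refine ⟨phi (kel i0 j hc).1, kel_mem_Q7 _ _ hc, fun he => ?_, ?_⟩
  · have h1 : phi (kel i0 j hc).1 = phi (kel i0 jc zC_facts).1 := Subtype.ext (he.trans zS_eq)
    have h2 : q9 (i0, j) = q9 (i0, jc) := Subtype.ext (cov_inj_K0 h1)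
    have h3 := q9_bijective.1 h2
    rw [Prod.mk.injEq] at h3
    exact hjne (by rw [h3.2, mask_jc])
  · refine isConj_iff.2 ⟨QuotientGroup.mk' NA ⟨wordEl tauW, mem_HA.2 hte⟩, ?_⟩
    rw [mul_inv_eq_iff_eq_mul, zS, ← map_mul]
    show _ = QuotientGroup.mk' NA (incl (kel i0 j hc).1) * _
    rw [← map_mul]
    exact congrArg _ (Subtype.ext hsum)

/-- The section of `Co₀` at an element of order three. -/
theorem suz_section : ∃ A : Subgroup ↥Cfsg.Co0, Nat.card A = 3 ∧ ∃ (hn : ((A ⊔ Subgroup.center ↥Cfsg.Co0).subgroupOf (Subgroup.centralizer (A : Set ↥Cfsg.Co0))).Normal), ∃ (S : Type) (_ : Group S) (_ : Finite S), Nonempty (S ≃* ↥(Subgroup.centralizer (A : Set ↥Cfsg.Co0)) ⧸ (A ⊔ Subgroup.center ↥Cfsg.Co0).subgroupOf (Subgroup.centralizer (A : Set ↥Cfsg.Co0))) ∧ IsSimpleGroup S ∧ ¬ IsMulCommutative S ∧ ∃ z : S, orderOf z = 2 ∧ ∃ (Q : Subgroup (Subgroup.centralizer ({z} : Set S))) (_ : Q.Normal), Cfsg.generalizedFittingSubgroup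 (Subgroup.centralizer ({z} : Set S)) = Q ∧ Cfsg.IsExtraspecial 2 Q ∧ Nat.card Q = 2 ^ 7 ∧ Nonempty ((Subgroup.centralizer ({z} : Set S)) ⧸ Q ≃* Cfsg.Omega (ZMod 2) (Cfsg.quadFormMinus 2 (ZMod 2) 1 1)) ∧ ∃ g : S, (∃ hq : g * z * g⁻¹ ∈ Subgroup.centralizer ({z} : Set S), (⟨g * z * g⁻¹, hq⟩ : Subgroup.centralizer ({z} : Set S)) ∈ Q) ∧ g * z * g⁻¹ ≠ z := by
  haveI : Finite Co0 := finite_Co0 codeUnique
  obtain ⟨u, hu, hne, hc⟩ := exists_conj_in
  obtain ⟨g, hg⟩ := isConj_iff.1 hc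
  have hm : g * zS * g⁻¹ ∈ CS := hg ▸ u.2
  have hnwc : ∃ g : S3t, (∃ hq : g * zS * g⁻¹ ∈ Subgroup.centralizer ({zS} : Set S3t),
      (⟨g * zS * g⁻¹, hq⟩ : Subgroup.centralizer ({zS} : Set S3t)) ∈ Q7) ∧ g * zS * g⁻¹ ≠ zS := by
    refine ⟨g, ⟨hm, ?_⟩, hg.symm ▸ hne⟩
    rw [show (⟨g * zS * g⁻¹, hm⟩ : ↥CS) = u from Subtype.ext hg]
    exact hu
  obtain ⟨hs, hab, hF, he⟩ := suz_recog orderOf_zS Q7 Q7_extraspecial (by rw [card_Q7]; rfl)
    (fun h => by
      rw [show (⟨zS, h⟩ : ↥CS) = phi (kel i0 jc zC_facts).1 from Subtype.ext zS_eq]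
      exact kel_mem_Q7 _ _ zC_facts)
    centralizer_Q7 card_quot hnwc
  exact ⟨A3g, card_A3g, NA_normal, S3t, inferInstance, inferInstance, ⟨MulEquiv.refl _⟩, hs, hab,
    zS, orderOf_zS, Q7, Q7_normal, hF, Q7_extraspecial, (by rw [card_Q7]; rfl), he, hnwc⟩

end Cfsg.Agent.Leech.Sec3
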