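import Cfsg.Agent.Lib.Leech.Sec5.Words

/-!
# Tables for the centralizer of a fixed-point-free element of order three in `Co₀`
-/

set_option autoImplicit false

namespace Cfsg.Agent.Leech.Sec3

open Cfsg.Agent.Leech.Sec5 (Step)

/-- The element of order three. -/
def aW : List Step := [
    some ([5, 17, 23, 14, 18, 2, 7, 20, 15, 12, 13, 10, 21, 11, 3, 8, 16, 0, 6, 19, 22, 9, 4, 1], 9908775),
    none,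
    some ([5, 23, 0, 2, 20, 1, 21, 8, 10, 18, 19, 15, 13, 9, 3, 11, 4, 17, 22, 6, 7, 12, 16, 14], 13850200),
    none]

/-- An element of its centralizer. -/
def g1W : List Step := [
    some ([3, 23, 2, 5, 16, 14, 18, 19, 13, 9, 4, 11, 7, 12, 17, 21, 6, 1, 15, 22, 8, 10, 20, 0], 1015007),
    none,
    some ([3, 2, 0, 14, 19, 1, 21, 7, 11, 15, 9, 10, 20, 13, 5, 18, 4, 23, 8, 16, 12, 22, 6, 17], 14295507)]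

/-- A further element of its centralizer. -/
def g2W : List Step := [
    some ([23, 2, 5, 3, 11, 0, 7, 20, 21, 4, 18, 19, 9, 12, 17, 22, 13, 1, 10, 6, 8, 15, 16, 14], 4892628),
    none,
    some ([5, 23, 3, 0, 18, 1, 22, 13, 7, 8, 12, 16, 4, 9, 17, 10, 20, 14, 19, 21, 15, 6, 11, 2], 13001395)]

/-- An element of the centralizer moving the octad involution into the extraspecial group. -/
def tauW : List Step := [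
    some ([18, 20, 16, 4, 14, 7, 1, 8, 2, 0, 10, 12, 17, 22, 19, 13, 5, 9, 21, 6, 23, 3, 15, 11], 9766207),
    none,
    some ([2, 17, 23, 1, 10, 14, 7, 4, 9, 15, 8, 16, 19, 13, 3, 22, 21, 5, 11, 18, 6, 20, 12, 0], 4880494)]

/-- The image of the octad. -/
def maskP : ℕ := 3216208

/-- The images modulo 2. -/
def colsT : List (List ℕ) := [[104, 80, 48, 15, 144, 164, 194, 16], [204, 48, 103, 183, 7, 105, 51, 15], [126, 252, 171, 195, 155, 24, 66, 44]]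

/-- An orthonormal frame for the quadratic space over the field with four elements. -/
def frameT : List ℕ := [17, 19, 21, 31]

/-- For each level and each candidate image, a word in the generators. -/
def certT : List (List (List ℕ)) := [
    [
      [],
      [2, 2, 1, 2, 1, 1],
      [1, 2, 1, 1, 1],
      [1, 1, 2, 2, 0],
      [2, 2, 2, 1, 2, 1, 1],
      [2, 1, 1, 1, 1],
      [2, 2, 1, 1, 1, 2],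
      [2, 1, 2, 2, 0],
      [1, 1, 2, 1, 2, 2, 0],
      [1, 1, 1, 2, 2],
      [1, 2, 1, 2],
      [1, 1, 2, 1, 1, 2, 0],
      [2, 1, 2, 1, 1, 1, 1],
      [1, 2, 1, 2, 2, 0],
      [2, 0],
      [2, 1],
      [1, 2, 1, 2, 2, 1],
      [2, 2, 1, 2, 1, 2, 2],
      [2, 1, 2, 1, 2, 1],
      [1, 2, 2, 2],
      [2, 1, 1, 1],
      [1, 1, 1, 2, 0],
      [2, 2, 1, 2, 2, 2, 0],
      [2, 2, 1, 1, 1],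
      [2, 2, 2, 0],
      [1, 2, 1],
      [2, 1, 1, 2, 1, 2, 1],
      [1, 2, 2, 1, 2, 0],
      [1, 2, 1, 1, 1, 1],
      [1, 1, 1, 1, 2, 1],
      [2, 1, 2, 1, 1, 1],
      [2, 1, 2, 1, 2],
      [1, 1, 1, 2],
      [2, 1, 1, 2],
      [1, 2, 2, 2, 0],
      [2, 2, 1, 2, 1, 2, 1],
      [2, 1, 2, 1, 2, 2, 0],
      [2, 2, 1, 1, 2],
      [1, 2, 1, 2, 2, 2],
      [2, 2, 1, 2, 2, 2],
      [1, 2, 2, 1],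
      [2, 2, 1, 2, 2, 1],
      [2, 2, 1, 2, 1, 2, 2, 0],
      [1, 1, 2, 1, 1],
      [2, 1, 1, 2, 0],
      [1, 1, 1, 1],
      [2, 1, 2, 1, 2, 2],
      [1, 2, 1, 2, 2, 2, 0],
      [2, 2, 1, 2, 2, 0],
      [2, 1, 2, 2, 2, 0],
      [1, 1, 2, 0],
      [1, 1],
      [2, 1, 2],
      [2, 2, 2, 1, 1],
      [2, 2, 1, 2],
      [1, 2, 2, 1, 1, 2],
      [2, 1, 2, 2],
      [1, 2, 0],
      [2, 1, 2, 1, 1],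
      [1, 1, 2, 1, 1, 2],
      [2, 2, 0],
      [1, 2, 2, 1, 2],
      [1, 2, 2, 1, 1, 1],
      [1, 1, 2, 2],
      [2, 1, 2, 0],
      [1, 2, 1, 2, 1],
      [1, 1, 1, 1, 2, 2],
      [2, 1, 2, 1],
      [1, 1, 2, 1],
      [1, 2, 2],
      [1, 1, 1, 2, 2, 0],
      [2, 2, 1, 2, 1],
      [1, 1, 2, 1, 2, 2, 1],
      [2, 2],
      [2, 1, 2, 2, 1],
      [2, 1, 1, 1, 2],
      [2, 2, 1, 2, 1, 2],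
      [2, 2, 2, 1, 2],
      [1, 1, 2, 1, 1, 1],
      [2, 1, 2, 1, 1, 2],
      [1, 2, 1, 1, 1, 2, 0],
      [1, 1, 2],
      [2, 2, 1, 1],
      [2, 2, 2],
      [1, 2, 1, 2, 2],
      [1, 1, 2, 2, 1, 1],
      [2, 1, 1, 1, 2, 0],
      [1, 1, 1, 2, 1],
      [1, 2, 1, 2, 0],
      [2, 1, 2, 1, 2, 0],
      [1, 1, 1],
      [2, 2, 1, 1, 1, 2, 0],
      [1, 2, 1, 1, 2],
      [2, 2, 1, 2, 0],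
      [1, 2, 2, 1, 1],
      [1],
      [1, 2, 2, 1, 2, 1, 2],
      [2, 2, 2, 1, 2, 0],
      [2, 1, 2, 2, 2],
      [1, 1, 2, 1, 2, 2],
      [1, 1, 1, 1, 2, 2, 0],
      [2, 2, 1, 1, 1, 1],
      [1, 2, 1, 1, 2, 0],
      [1, 2, 2, 0],
      [1, 2, 1, 1],
      [2, 1, 2, 1, 1, 2, 0],
      [1, 1, 2, 1, 2, 2, 2],
      [2],
      [2, 1, 1],
      [0, 0],
      [2, 1, 1, 2, 2, 1, 1],
      [2, 2, 1, 2, 2],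
      [1, 1, 1, 2, 1, 1],
      [2, 2, 1],
      [1, 1, 2, 1, 2, 1],
      [2, 2, 2, 1, 2, 1, 2],
      [0],
      [1, 2, 2, 1, 2, 1, 1],
      [1, 2, 1, 1, 1, 2],
      [1, 2]],
    [
      [],
      [1, 2, 1, 2, 2, 1, 2, 0],
      [1, 2, 1, 1, 1, 2, 1, 2, 1, 1, 1, 2, 0],
      [1, 1, 2, 2, 2, 1, 1, 2, 2, 1],
      [2, 2, 2, 1, 1, 1, 2, 1, 1, 2, 2],
      [1, 1, 1, 1, 2, 0, 0],
      [2, 1, 1, 2, 1, 1, 2, 1, 2, 2, 2],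
      [2, 2, 1, 1, 2, 2, 2, 1, 2, 1, 0, 0],
      [1, 1, 2, 1, 1, 2, 1, 0],
      [2, 1, 2, 1, 1, 2, 1, 2, 2, 2, 1, 1],
      [2, 1, 2, 2, 1, 2, 1, 1, 1, 2, 0, 0],
      [1, 1, 2, 1, 2, 1, 1, 1, 2, 1, 0],
      [2, 2, 1, 2, 2, 2, 1, 2, 2, 2],
      [1, 1, 2, 1, 1, 2, 2],
      [1, 2, 1, 2, 2, 1, 1, 0, 0],
      [2, 1, 2, 1, 1, 1, 2, 2, 1, 1],
      [1, 1, 2, 2, 1, 1, 2, 1, 1],
      [1, 2, 2, 1, 1, 1, 1, 2, 1, 1, 1, 1, 0],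
      [2, 1, 2, 1, 1, 1, 2, 2, 1, 2, 0, 0],
      [2, 1, 2, 2, 1, 2, 1, 1, 1, 1],
      [2, 2, 1, 1, 1, 2, 2, 2, 1, 1, 2],
      [2, 2, 1, 1, 1, 1, 2, 1, 1, 1, 2, 1],
      [2, 2, 2, 1],
      [1, 2, 2, 2, 1, 1, 1, 2, 1, 2, 1, 1, 2],
      [1, 2, 1, 2, 2, 1, 2, 1, 1, 1, 1, 2],
      [1, 1, 1, 1, 2, 1, 1, 1, 1, 2, 0],
      [2, 1, 1, 1, 2, 1, 1, 1, 0, 0],
      [2, 2, 2, 1, 2, 2, 2, 1],
      [2, 1, 2, 2, 2, 1, 2, 1, 2, 2, 1, 0, 0],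
      [1, 2, 2, 1, 2, 2, 2, 1, 1, 0, 0],
      [2, 1, 1, 1, 2, 1, 1, 2, 0],
      [1, 1, 2, 1, 1, 2, 1, 2, 2, 2, 1, 0],
      [1, 2, 2, 1, 1, 2, 1, 2, 1, 1, 2, 0, 0],
      [1, 2, 1, 2, 1, 2, 2, 1, 2, 2, 0],
      [1, 2, 2, 1, 2, 2, 2, 1, 2, 0],
      [2, 2, 1, 1, 2, 2, 2, 1, 2, 2, 0]],
    [
      [],
      [1, 1, 1, 2, 1, 2, 1, 2, 1, 1, 1],
      [2, 1, 2, 1, 1, 2, 2, 2, 1, 1, 1, 2, 0, 0],
      [1, 1, 1, 2, 1, 1, 1, 2, 1, 1, 1, 2],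
      [2, 1, 2, 1, 1, 2, 2, 1, 1, 2, 2, 2, 1, 1, 0],
      [2, 1, 2, 2, 1, 1, 2, 2, 1, 1, 1, 2]],
    [
      [],
      [2, 2, 1, 1, 2, 1, 1, 2, 1, 1, 2, 2, 2, 0],
      [2, 1, 1, 2, 1, 2, 1, 2, 2, 1, 1, 2, 1, 2, 2, 0, 0]]]

/-- Pairs of table and mask generating the centralizer in the kernel. -/
def gensR : List (List ℕ × ℕ) := [
    ([0, 1, 2, 3, 6, 5, 4, 22, 20, 12, 11, 10, 9, 19, 14, 18, 21, 17, 15, 13, 8, 16, 7, 23], 1584464),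
    ([0, 1, 2, 3, 10, 5, 11, 12, 19, 22, 4, 6, 7, 20, 14, 16, 15, 17, 21, 8, 13, 18, 9, 23], 2460752),
    ([0, 1, 2, 3, 13, 5, 19, 21, 11, 15, 20, 8, 18, 4, 14, 9, 22, 17, 12, 6, 10, 7, 16, 23], 2702848),
    ([0, 1, 2, 3, 9, 5, 12, 11, 21, 4, 22, 7, 6, 15, 14, 13, 20, 17, 19, 18, 16, 8, 10, 23], 4536592),
    ([0, 1, 2, 3, 18, 5, 15, 20, 22, 19, 21, 16, 13, 12, 14, 6, 11, 17, 4, 9, 7, 10, 8, 23], 1351424),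
    ([0, 1, 2, 3, 16, 5, 21, 19, 12, 20, 15, 18, 8, 22, 14, 10, 4, 17, 11, 7, 9, 6, 13, 23], 7903248)]

/-- Three commutators with the element of order three in the kernel. -/
def movedT : List (List ℕ × ℕ) := [
    ([0, 1, 2, 3, 9, 5, 12, 11, 21, 4, 22, 7, 6, 15, 14, 13, 20, 17, 19, 18, 16, 8, 10, 23], 337856),
    ([0, 1, 2, 3, 16, 5, 21, 19, 12, 20, 15, 18, 8, 22, 14, 10, 4, 17, 11, 7, 9, 6, 13, 23], 7079696),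
    ([0, 1, 2, 3, 20, 5, 8, 18, 6, 16, 13, 19, 21, 10, 14, 22, 9, 17, 7, 11, 4, 12, 15, 23], 1351424)]

/-- The images of the frame under the element of order three. -/
def aImg : List (List ℤ) := [
    [-4, 0, 0, 0, 0, -4, 0, 0, 0, 0, 0, 0, 0, 0, -4, 0, 0, 0, 0, 0, 0, 0, 0, 4],
    [0, -4, -4, 4, 0, 0, 0, 0, 0, 0, 0, 0, 0, 0, 0, 0, 0, -4, 0, 0, 0, 0, 0, 0],
    [0, 4, -4, -4, 0, 0, 0, 0, 0, 0, 0, 0, 0, 0, 0, 0, 0, -4, 0, 0, 0, 0, 0, 0],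
    [0, -4, 4, -4, 0, 0, 0, 0, 0, 0, 0, 0, 0, 0, 0, 0, 0, -4, 0, 0, 0, 0, 0, 0],
    [0, 0, 0, 0, -4, 0, 0, 0, 0, -4, 0, 0, 0, 0, 0, 0, 4, 0, 0, 0, -4, 0, 0, 0],
    [4, 0, 0, 0, 0, -4, 0, 0, 0, 0, 0, 0, 0, 0, -4, 0, 0, 0, 0, 0, 0, 0, 0, -4],
    [0, 0, 0, 0, 0, 0, -4, 0, -4, 0, 0, 0, 4, 0, 0, 0, 0, 0, 0, 0, 0, -4, 0, 0],
    [0, 0, 0, 0, 0, 0, 0, -4, 0, 0, 0, 4, 0, 0, 0, 0, 0, 0, -4, -4, 0, 0, 0, 0],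
    [0, 0, 0, 0, 0, 0, 4, 0, -4, 0, 0, 0, 4, 0, 0, 0, 0, 0, 0, 0, 0, 4, 0, 0],
    [0, 0, 0, 0, 4, 0, 0, 0, 0, -4, 0, 0, 0, 0, 0, 0, 4, 0, 0, 0, 4, 0, 0, 0],
    [0, 0, 0, 0, 0, 0, 0, 0, 0, 0, -4, 0, 0, 4, 0, 4, 0, 0, 0, 0, 0, 0, 4, 0],
    [0, 0, 0, 0, 0, 0, 0, -4, 0, 0, 0, -4, 0, 0, 0, 0, 0, 0, -4, 4, 0, 0, 0, 0],
    [0, 0, 0, 0, 0, 0, -4, 0, -4, 0, 0, 0, -4, 0, 0, 0, 0, 0, 0, 0, 0, 4, 0, 0],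
    [0, 0, 0, 0, 0, 0, 0, 0, 0, 0, -4, 0, 0, -4, 0, 4, 0, 0, 0, 0, 0, 0, -4, 0],
    [4, 0, 0, 0, 0, 4, 0, 0, 0, 0, 0, 0, 0, 0, -4, 0, 0, 0, 0, 0, 0, 0, 0, 4],
    [0, 0, 0, 0, 0, 0, 0, 0, 0, 0, -4, 0, 0, -4, 0, -4, 0, 0, 0, 0, 0, 0, 4, 0],
    [0, 0, 0, 0, -4, 0, 0, 0, 0, -4, 0, 0, 0, 0, 0, 0, -4, 0, 0, 0, 4, 0, 0, 0],
    [0, 4, 4, 4, 0, 0, 0, 0, 0, 0, 0, 0, 0, 0, 0, 0, 0, -4, 0, 0, 0, 0, 0, 0],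
    [0, 0, 0, 0, 0, 0, 0, 4, 0, 0, 0, 4, 0, 0, 0, 0, 0, 0, -4, 4, 0, 0, 0, 0],
    [0, 0, 0, 0, 0, 0, 0, 4, 0, 0, 0, -4, 0, 0, 0, 0, 0, 0, -4, -4, 0, 0, 0, 0],
    [0, 0, 0, 0, 4, 0, 0, 0, 0, -4, 0, 0, 0, 0, 0, 0, -4, 0, 0, 0, -4, 0, 0, 0],
    [0, 0, 0, 0, 0, 0, 4, 0, -4, 0, 0, 0, -4, 0, 0, 0, 0, 0, 0, 0, 0, -4, 0, 0],
    [0, 0, 0, 0, 0, 0, 0, 0, 0, 0, -4, 0, 0, 4, 0, -4, 0, 0, 0, 0, 0, 0, -4, 0],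
    [-4, 0, 0, 0, 0, 4, 0, 0, 0, 0, 0, 0, 0, 0, -4, 0, 0, 0, 0, 0, 0, 0, 0, -4]]

end Cfsg.Agent.Leech.Sec3
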